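import Cfsg.Agent.EqLemmas
import Cfsg.Agent.Lib.MaxOrders.Main
import Cfsg.Agent.Lib.Suzuki.Aut
import Cfsg.Agent.Lib.Suzuki.Tori
import Cfsg.Agent.Lib.Suzuki.Subfield
import Cfsg.Agent.Lib.Suzuki.SzEightBound
import Cfsg.Agent.Lib.Components.Basic
import Cfsg.Agent.Lib.Cores.Subnormal
import Cfsg.Agent.Lib.FieldAut.Descent
import Cfsg.Agent.Lib.FTUse.Hall
import Cfsg.Agent.S0205

/-!
A component of order prime to three and an element of order three with solvable centraliser
(owner: helper96), given the classification of the simple groups of order prime to three.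
-/

set_option autoImplicit false
set_option linter.unusedSectionVars false
set_option linter.style.haveILetI false

open Cfsg
open scoped Pointwise commutatorElement

namespace Cfsg.Agent.ThreePrimeUse

open Cfsg.Agent.MaxOrders

universe u

variable {G : Type u} [Group G]

/-- A solvable image of a perfect group is trivial. -/
theorem hom_eq_one_of_perfect {H : Type*} [Group H] {K : Type*} [Group K] [Group.IsPerfect K]
    (f : K →* H) (hs : Group.IsSolvable f.range) (k : K) : f k = 1 := by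
  haveI := hs
  haveI : Group.IsPerfect f.range := Group.IsPerfect.ofSurjective f.rangeRestrict_surjective
  have h : Subsingleton f.range := by
    by_contra hn
    rw [not_subsingleton_iff_nontrivial] at hn
    exact Group.IsPerfect.not_isSolvable f.range hs
  exact congrArg Subtype.val (Subsingleton.elim (⟨f k, k, rfl⟩ : f.range) 1)

theorem mem_normalizer_of_solvable [Finite G] {K : Subgroup G} (hK : Cfsg.IsComponent K) {y : G}
    (hy : orderOf y = 3)
    (hsol : Group.IsSolvable ↥(Subgroup.centralizer ({y} : Set G))) :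
    y ∈ Subgroup.normalizer (K : Set G) := by
  classical
  haveI : Group.IsPerfect K := hK.2.1
  have hy3 : y ^ 3 = 1 := by rw [← hy]; exact pow_orderOf_eq_one y
  set K₁ := K.map (MulAut.conj y).toMonoidHom with hK₁
  set K₂ := K.map (MulAut.conj (y ^ 2)).toMonoidHom with hK₂
  have hC₁ : Cfsg.IsComponent K₁ := Components.IsComponent.conj hK y
  have hC₂ : Cfsg.IsComponent K₂ := Components.IsComponent.conj hK (y ^ 2)
  by_cases h1 : K₁ = K
  · refine Subgroup.mem_normalizer_iff.2 fun x => ?_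
    conv_rhs => rw [← h1]
    rw [hK₁, Subgroup.mem_map]
    exact ⟨fun hx => ⟨x, hx, rfl⟩, fun ⟨z, hz, e⟩ => (MulAut.conj y).injective e ▸ hz⟩
  exfalso
  have hcomp : ∀ a b : G, (K.map (MulAut.conj b).toMonoidHom).map (MulAut.conj a).toMonoidHom =
      K.map (MulAut.conj (a * b)).toMonoidHom := by
    intro a b
    rw [Subgroup.map_map]
    congr 1
    ext x
    simp [mul_assoc]
  have h10 : K₁.map (MulAut.conj y).toMonoidHom = K₂ := by rw [hK₁, hcomp, hK₂, pow_two]
  have h20 : K₂.map (MulAut.conj y).toMonoidHom = K := by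
    rw [hK₂, hcomp, ← pow_succ', hy3, map_one]
    exact Subgroup.map_id K
  have h2 : K₂ ≠ K := fun e => h1 (by rw [e] at h20; exact h20)
  have h12 : K₁ ≠ K₂ := fun e => h1 (by
    rw [e] at h10
    exact (e.trans h10.symm).trans h20)
  have hcom : ∀ {A B : Subgroup G}, Cfsg.IsComponent A → Cfsg.IsComponent B → A ≠ B →
      ∀ a ∈ A, ∀ b ∈ B, Commute a b := fun hA hB hne a ha b hb =>
    commutatorElement_eq_one_iff_commute.1 (Subgroup.mem_bot.1
      (Components.IsComponent.commutator_eq_bot hA hB hne ▸ Subgroup.commutator_mem_commutator ha hb))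
  set c1 : G → G := fun k => y * k * y⁻¹ with hc1
  set c2 : G → G := fun k => y ^ 2 * k * (y ^ 2)⁻¹ with hc2
  have hm1 : ∀ k : K, c1 k ∈ K₁ := fun k => ⟨k, k.2, rfl⟩
  have hm2 : ∀ k : K, c2 k ∈ K₂ := fun k => ⟨k, k.2, rfl⟩
  have q01 : ∀ k l : K, Commute (k : G) (c1 l) := fun k l => hcom hK hC₁ (Ne.symm h1) _ k.2 _ (hm1 l)
  have q02 : ∀ k l : K, Commute (k : G) (c2 l) := fun k l => hcom hK hC₂ (Ne.symm h2) _ k.2 _ (hm2 l)
  have q12 : ∀ k l : K, Commute (c1 k) (c2 l) := fun k l => hcom hC₁ hC₂ h12 _ (hm1 k) _ (hm2 l)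
  let φ : K →* G :=
    { toFun := fun k => (k : G) * c1 k * c2 k
      map_one' := by simp [hc1, hc2]
      map_mul' := fun k l => by
        have e1 : c1 ((k : G) * l) = c1 k * c1 l := by simp [hc1, mul_assoc]
        have e2 : c2 ((k : G) * l) = c2 k * c2 l := by simp [hc2, mul_assoc]
        rw [Subgroup.coe_mul, e1, e2]
        calc (k : G) * l * (c1 k * c1 l) * (c2 k * c2 l)
            = k * (l * c1 k) * (c1 l * c2 k) * c2 l := by group
          _ = k * (c1 k * l) * (c2 k * c1 l) * c2 l := by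
              rw [(q01 l k).eq, (q12 l k).eq]
          _ = k * c1 k * (l * c2 k) * c1 l * c2 l := by group
          _ = k * c1 k * (c2 k * l) * c1 l * c2 l := by rw [(q02 l k).eq]
          _ = k * c1 k * c2 k * (l * c1 l * c2 l) := by group }
  have hrange : φ.range ≤ Subgroup.centralizer ({y} : Set G) := by
    rintro _ ⟨k, rfl⟩
    rw [Subgroup.mem_centralizer_singleton_iff]
    show (k : G) * c1 k * c2 k * y = y * ((k : G) * c1 k * c2 k)
    have e : y * ((k : G) * c1 k * c2 k) * y⁻¹ = c1 k * c2 k * k := by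
      have e3 : y * c2 k * y⁻¹ = (k : G) := by
        simp only [hc2]
        calc y * (y ^ 2 * (k : G) * (y ^ 2)⁻¹) * y⁻¹ = y ^ 3 * (k : G) * (y ^ 3)⁻¹ := by group
          _ = (k : G) := by rw [hy3]; simp
      have e4 : y * c1 k * y⁻¹ = c2 k := by simp only [hc1, hc2, pow_two, mul_inv_rev]; group
      calc y * ((k : G) * c1 k * c2 k) * y⁻¹
          = (y * (k : G) * y⁻¹) * (y * c1 k * y⁻¹) * (y * c2 k * y⁻¹) := by group
        _ = c1 k * c2 k * k := by rw [e3, e4]
    calc (k : G) * c1 k * c2 k * y = c1 k * (k * c2 k) * y := by rw [(q01 k k).eq]; group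
      _ = c1 k * c2 k * k * y := by rw [(q02 k k).eq]; group
      _ = y * ((k : G) * c1 k * c2 k) := by rw [← e]; group
  haveI := hsol
  have htriv : ∀ k, φ k = 1 := hom_eq_one_of_perfect φ
    (Group.isSolvable_of_isSolvable_injective (Subgroup.inclusion_injective hrange))
  refine Components.IsComponent.not_le_centralizer hK fun a ha => ?_
  have ha' : (⟨a, ha⟩ : K).1 = (c1 a * c2 a)⁻¹ := eq_inv_of_mul_eq_one_left (by
    rw [← mul_assoc]; exact htriv ⟨a, ha⟩)
  refine Subgroup.mem_centralizer_iff.2 fun b hb => ?_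
  rw [show a = (c1 a * c2 a)⁻¹ from ha']
  exact (((q01 ⟨b, hb⟩ ⟨a, ha⟩).mul_right (q02 ⟨b, hb⟩ ⟨a, ha⟩)).inv_right).eq

section Sz

variable {F : Type} [Field F] [Fintype F] {m : ℕ}

theorem field_eight (hm : 1 ≤ m) (hF : Fintype.card F = 2 ^ (2 * m + 1)) (α : MulAut (Sz F m))
    (h3 : α ^ 3 = 1) (h1 : α ≠ 1)
    (hsol : Group.IsSolvable ↥(α.toMonoidHom.eqLocus (MonoidHom.id (Sz F m)))) : m = 1 := by
  classical
  haveI : Finite (Sz F m) := Nat.finite_of_card_ne_zero (by
    rw [Suzuki.card_sz hm hF]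
    have h1 := Nat.one_lt_two_pow (n := 2 * m + 1) (by omega)
    have h2 : 0 < 2 ^ (2 * m + 1) - 1 := by omega
    positivity)
  haveI : Finite (MulAut (Sz F m)) :=
    Finite.of_injective (fun a => (a : Sz F m → Sz F m)) DFunLike.coe_injective
  haveI := Fact.mk Nat.prime_three
  obtain ⟨g, τ, hα⟩ := Suzuki.aut_decompose hm hF α
  set φ := Suzuki.fieldAut hm hF τ with hφ
  set I := (MulAut.conj : Sz F m →* MulAut (Sz F m)).range with hI
  haveI : I.Normal := ⟨by
    rintro _ ⟨s, rfl⟩ β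
    exact ⟨β s, MulEquiv.ext fun z => by simp⟩⟩
  have hIcard : Nat.card I ∣ Nat.card (Sz F m) := Subgroup.card_range_dvd _
  have h3S : ¬ 3 ∣ Nat.card (Sz F m) := by rw [Suzuki.card_sz hm hF]; exact Suzuki.not_three_dvd m
  have hcop : (Nat.card I).Coprime 3 :=
    ((Nat.prime_three.coprime_iff_not_dvd).2 fun h => h3S (h.trans hIcard)).symm
  have hφα : (α : MulAut (Sz F m) ⧸ I) = (φ : MulAut (Sz F m) ⧸ I) := by
    rw [hα, QuotientGroup.mk_mul, (QuotientGroup.eq_one_iff (N := I) (MulAut.conj g)).2 ⟨g, rfl⟩, one_mul]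
  have hφ3 : φ ^ 3 = 1 := by
    have hmem : φ ^ 3 ∈ I := (QuotientGroup.eq_one_iff _).1 (by
      rw [QuotientGroup.mk_pow, ← hφα, ← QuotientGroup.mk_pow, h3, QuotientGroup.mk_one])
    obtain ⟨s, hs⟩ := hmem
    have e : φ ^ 3 = Suzuki.fieldAut hm hF (τ ^ 3) :=
      (map_pow (Suzuki.fieldAutHom hm hF) τ 3).symm
    rw [e, Suzuki.fieldAut_inner hm hF (τ := τ ^ 3) (g := s) (by rw [← e]; exact hs.symm)]
    exact map_one (Suzuki.fieldAutHom hm hF)
  have hτ3 : τ ^ 3 = 1 := Suzuki.fieldAut_inner hm hF (g := 1) (by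
    rw [show Suzuki.fieldAut hm hF (τ ^ 3) = φ ^ 3 from map_pow (Suzuki.fieldAutHom hm hF) τ 3,
      hφ3, map_one])
  have hτ1 : τ ≠ 1 := by
    intro e
    have hαI : α ∈ I := ⟨g, by
      rw [hα, hφ, e, show Suzuki.fieldAut hm hF 1 = 1 from map_one (Suzuki.fieldAutHom hm hF),
        mul_one]⟩
    have h : orderOf α ∣ Nat.card I := Subgroup.orderOf_dvd_natCard I hαI
    rw [orderOf_eq_prime h3 h1] at h
    exact h3S (h.trans hIcard)
  have hφ1 : φ ≠ 1 := fun e => hτ1 (Suzuki.fieldAut_inner hm hF (g := 1) (by rw [← hφ, e, map_one]))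
  have hord : ∀ β : MulAut (Sz F m), β ^ 3 = 1 → β ≠ 1 → Nat.card (Subgroup.zpowers β) = 3 :=
    fun β hb hb1 => (Nat.card_zpowers β).trans (orderOf_eq_prime hb hb1)
  have hmem : ∀ a b : MulAut (Sz F m), (a : MulAut (Sz F m) ⧸ I) = b →
      Subgroup.zpowers a ≤ Subgroup.zpowers b ⊔ I := by
    intro a b hab
    rw [Subgroup.zpowers_le, show a = b * (b⁻¹ * a) by group]
    exact Subgroup.mul_mem_sup (Subgroup.mem_zpowers b) (QuotientGroup.eq.1 hab.symm)
  have hFT : FTUse.OddSolvable.{0} := fun G _ _ h => S0205.result h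
  obtain ⟨β, -, hβ⟩ := FTUse.schurZassenhaus_conj hFT (N := I) (H := Subgroup.zpowers φ)
    (K := Subgroup.zpowers α)
    (le_antisymm (sup_le (hmem φ α hφα.symm) le_sup_right) (sup_le (hmem α φ hφα) le_sup_right))
    (by rw [hord φ hφ3 hφ1]; exact hcop.symm) (by rw [hord α h3 h1]; exact hcop.symm)
  -- the fixed points of `φ` embed in those of `α`
  have hαmem : α ∈ MulAut.conj β • Subgroup.zpowers φ := hβ ▸ Subgroup.mem_zpowers α
  obtain ⟨γ, ⟨j, rfl⟩, hγ⟩ := (Subgroup.mem_smul_pointwise_iff_exists _ _ _).1 hαmem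
  have hfix : ∀ z, φ z = z → α (β z) = β z := by
    intro z hz
    have hj : (φ ^ j) z = z := by
      have hst : φ ∈ MulAction.stabilizer (MulAut (Sz F m)) z := hz
      exact zpow_mem hst j
    rw [← hγ]
    show β ((φ ^ j) (β⁻¹ (β z))) = β z
    rw [MulAut.inv_apply_self, hj]
  -- the fixed field
  have hτo : orderOf τ = 3 := orderOf_eq_prime hτ3 hτ1
  set L := FieldAut.fixF τ with hL
  haveI : Fintype L := Fintype.ofFinite _
  have hcard : Fintype.card L ^ 3 = 2 ^ (2 * m + 1) := by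
    rw [← Nat.card_eq_fintype_card, hL, FieldAut.pow_card_fixed τ hτo, Nat.card_eq_fintype_card, hF]
  obtain ⟨j', -, hj'⟩ := (Nat.dvd_prime_pow Nat.prime_two).1
    (Dvd.intro _ ((pow_succ' (Fintype.card L) 2).symm.trans hcard))
  rw [hj', ← pow_mul] at hcard
  have hn : j' * 3 = 2 * m + 1 := Nat.pow_right_injective le_rfl hcard
  by_contra hne
  obtain ⟨k, rfl⟩ : ∃ k, j' = 2 * k + 1 := ⟨j' / 2, by omega⟩
  have hk : 1 ≤ k := by omega
  have hdiv : 2 * k + 1 ∣ 2 * m + 1 := ⟨3, hn.symm⟩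
  set ι := Suzuki.szMap hF hk hj' L.subtype
    (Suzuki.th_comm_of_hom hj' hdiv L.subtype) with hι
  have hfix' : ∀ x : L, τ (x : F) = x := fun x => (FieldAut.mem_fixF τ).1 x.2
  have hιfix : ∀ z, φ (ι z) = ι z := by
    have : φ.toMonoidHom.comp ι = ι := by
      refine Suzuki.hom_ext_gens hk hj' (fun a b => ?_) (fun u => ?_) ?_
      · show φ (ι _) = ι _
        rw [hι, Suzuki.szMap_tSz, hφ, Suzuki.fieldAut_tSz]
        congr 1 <;> exact hfix' _
      · show φ (ι _) = ι _
        rw [hι, Suzuki.szMap_dSz, hφ, Suzuki.fieldAut_dSz]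
        exact congrArg _ (Units.ext (hfix' (u : L)))
      · show φ (ι _) = ι _
        rw [hι, Suzuki.szMap_wSz, hφ, Suzuki.fieldAut_wSz]
    exact fun z => DFunLike.congr_fun this z
  let f : Sz L k →* α.toMonoidHom.eqLocus (MonoidHom.id (Sz F m)) :=
    ((β : MulAut (Sz F m)).toMonoidHom.comp ι).codRestrict _ fun z => hfix _ (hιfix z)
  have hf : Function.Injective f := fun a b e => by
    have e' : β (ι a) = β (ι b) := congrArg Subtype.val e
    exact Suzuki.szMap_injective hF hk hj' _ _ (β.injective e')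
  haveI : Group.IsPerfect (Sz L k) := ⟨Suzuki.commutator_eq_top hk hj'⟩
  haveI : Nontrivial (Sz L k) := (Suzuki.isSimpleGroup_sz hk hj').toNontrivial
  exact Group.IsPerfect.not_isSolvable (Sz L k)
    (haveI := hsol; Group.isSolvable_of_isSolvable_injective hf)

end Sz

theorem main [Finite G] (h3P : ThreePrimeClass.{u}) (K : Subgroup G) (hK : Cfsg.IsComponent K)
    (h3 : ¬ 3 ∣ Nat.card ↥K) (y : G) (hy : orderOf y = 3)
    (hsol : Group.IsSolvable ↥(Subgroup.centralizer ({y} : Set G))) :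
    (∃ (F : Type) (_ : Field F) (_ : Fintype F), Fintype.card F = 8 ∧
      Nonempty (↥K ⧸ Subgroup.center ↥K ≃* ↥(Cfsg.Lie.Sz F 4))) ∧
      y ∈ Subgroup.normalizer (K : Set G) ∧ (Cfsg.pCore 2 G = ⊥ → IsSimpleGroup ↥K) := by
  classical
  have hyN := mem_normalizer_of_solvable hK hy hsol
  haveI : Group.IsPerfect K := hK.2.1
  haveI := hK.2.2
  set Z := Subgroup.center ↥K with hZ
  have hnc : ∃ a b : ↥K ⧸ Z, a * b ≠ b * a := by
    by_contra hc
    push_neg at hc
    haveI : Group.IsPerfect (↥K ⧸ Z) :=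
      Group.IsPerfect.ofSurjective (QuotientGroup.mk'_surjective Z)
    haveI : IsMulCommutative (↥K ⧸ Z) := ⟨⟨hc⟩⟩
    exact Group.IsPerfect.not_isSolvable (↥K ⧸ Z) inferInstance
  obtain ⟨F, _, _, m, hm, hF, ⟨e⟩⟩ := h3P (↥K ⧸ Z) hnc fun h =>
    h3 (h.trans (Subgroup.card_quotient_dvd_card Z))
  set e' : ↥K ⧸ Z ≃* Sz F m := e.trans (Suzuki.lieEquiv hm hF).symm
  -- the action of `y`
  have hy3 : y ^ 3 = 1 := by rw [← hy]; exact pow_orderOf_eq_one y
  set σ : MulAut K :=
    { toFun := fun k => ⟨y * k * y⁻¹, (Subgroup.mem_normalizer_iff.1 hyN k).1 k.2⟩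
      invFun := fun k => ⟨y⁻¹ * k * y, (Subgroup.mem_normalizer_iff.1 hyN _).2 (by
        rw [show y * (y⁻¹ * (k : G) * y) * y⁻¹ = k by group]; exact k.2)⟩
      left_inv := fun k => Subtype.ext (by show y⁻¹ * (y * (k : G) * y⁻¹) * y = k; group)
      right_inv := fun k => Subtype.ext (by show y * (y⁻¹ * (k : G) * y) * y⁻¹ = k; group)
      map_mul' := fun k l => Subtype.ext (by
        show y * ((k : G) * l) * y⁻¹ = y * k * y⁻¹ * (y * l * y⁻¹); group) } with hσ
  have hσ3 : ∀ k, σ (σ (σ k)) = k := fun k => Subtype.ext (by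
    show y * (y * (y * (k : G) * y⁻¹) * y⁻¹) * y⁻¹ = k
    calc _ = y ^ 3 * (k : G) * (y ^ 3)⁻¹ := by
          rw [pow_succ, pow_two, mul_inv_rev, mul_inv_rev]; group
      _ = k := by rw [hy3]; simp)
  have hZσ : Z.map σ.toMonoidHom = Z := Subgroup.characteristic_iff_map_eq.1 inferInstance σ
  set σ' : MulAut (↥K ⧸ Z) := QuotientGroup.congr Z Z σ hZσ with hσ'
  have hσ'mk : ∀ k : K, σ' (k : ↥K ⧸ Z) = ((σ k : K) : ↥K ⧸ Z) := fun k => rfl
  -- the inverse image of the fixed points is solvable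
  have hcen : ∀ k : K, σ k = k → (k : G) ∈ Subgroup.centralizer ({y} : Set G) := fun k hk =>
    Subgroup.mem_centralizer_singleton_iff.2 (mul_inv_eq_iff_eq_mul.1 (congrArg Subtype.val hk)).symm
  set P := (σ'.toMonoidHom.eqLocus (MonoidHom.id _)).comap (QuotientGroup.mk' Z) with hP
  have hfZ : ∀ k : P, (k : K)⁻¹ * σ k ∈ Z := fun k => QuotientGroup.eq.1 ((hσ'mk k).symm.trans k.2).symm
  let f : P →* Z :=
    { toFun := fun k => ⟨_, hfZ k⟩
      map_one' := Subtype.ext (by simp)
      map_mul' := fun k l => Subtype.ext (by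
        show ((k * l : P) : K)⁻¹ * σ (k * l : P) = (k : K)⁻¹ * σ k * ((l : K)⁻¹ * σ l)
        rw [Subgroup.coe_mul, map_mul, mul_inv_rev]
        have hc := Subgroup.mem_center_iff.1 (hfZ k) (l : K)⁻¹
        calc (l : K)⁻¹ * (k : K)⁻¹ * (σ k * σ l) = (l : K)⁻¹ * ((k : K)⁻¹ * σ k) * σ l := by group
          _ = (k : K)⁻¹ * σ k * (l : K)⁻¹ * σ l := by rw [hc]
          _ = _ := by group) }
  have hker : Group.IsSolvable f.ker := by
    haveI := hsol
    have hmem : ∀ x : f.ker, ((x : P) : G) ∈ Subgroup.centralizer ({y} : Set G) := fun x => hcen _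
      (inv_mul_eq_one.1 (congrArg Subtype.val x.2)).symm
    exact Group.isSolvable_of_isSolvable_injective
      (f := ((K.subtype.comp (P.subtype.comp f.ker.subtype)).codRestrict _ hmem))
      fun a b h => Subtype.ext (Subtype.ext (Subtype.ext (congrArg Subtype.val h :)))
  haveI : Group.IsSolvable Z := Group.isSolvable_of_comm fun a b => Subtype.ext (Subgroup.mem_center_iff.1 b.2 a)
  haveI hPsol : Group.IsSolvable P := Group.isSolvable_of_ker_le_range f.ker.subtype f
    (by rw [Subgroup.range_subtype])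
  have hfixsol : Group.IsSolvable ↥(σ'.toMonoidHom.eqLocus (MonoidHom.id _)) := by
    refine Group.isSolvable_of_surjective (f := ((QuotientGroup.mk' Z).comp P.subtype).codRestrict _
      fun k => k.2) ?_
    rintro ⟨q, hq⟩
    obtain ⟨k, rfl⟩ := QuotientGroup.mk'_surjective Z q
    exact ⟨⟨k, hq⟩, rfl⟩
  have hσ'1 : σ' ≠ 1 := by
    intro h1
    haveI := hfixsol
    haveI : Group.IsPerfect (Sz F m) := ⟨Suzuki.commutator_eq_top hm hF⟩
    haveI : Nontrivial (Sz F m) := (Suzuki.isSimpleGroup_sz hm hF).toNontrivial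
    refine Group.IsPerfect.not_isSolvable (Sz F m) (Group.isSolvable_of_surjective
      (f := e'.toMonoidHom.comp (σ'.toMonoidHom.eqLocus (MonoidHom.id _)).subtype) fun s => ?_)
    exact ⟨⟨e'.symm s, by show σ' (e'.symm s) = e'.symm s; rw [h1]; rfl⟩, e'.apply_symm_apply s⟩
  set α : MulAut (Sz F m) := MulAut.congr e' σ' with hα
  have hαap : ∀ s, α s = e' (σ' (e'.symm s)) := fun s => rfl
  have hm1 : m = 1 := by
    refine field_eight hm hF α ?_ ?_ ?_
    · rw [hα, ← map_pow, show σ' ^ 3 = 1 from ?_, map_one]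
      refine MulEquiv.ext fun q => ?_
      obtain ⟨k, rfl⟩ := QuotientGroup.mk'_surjective Z q
      show σ' (σ' (σ' (k : ↥K ⧸ Z))) = (k : ↥K ⧸ Z)
      rw [hσ'mk, hσ'mk, hσ'mk, hσ3]
    · rw [hα]
      exact fun h => hσ'1 ((MulEquiv.map_eq_one_iff _).1 h)
    · haveI := hfixsol
      refine Group.isSolvable_of_isSolvable_injective
        (f := (e'.symm.toMonoidHom.comp (α.toMonoidHom.eqLocus (MonoidHom.id _)).subtype).codRestrict
          (σ'.toMonoidHom.eqLocus (MonoidHom.id _)) fun s => ?_)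
        fun a b h => Subtype.ext (e'.symm.injective (congrArg Subtype.val h))
      have hs : α s = (s : Sz F m) := s.2
      rw [hαap] at hs
      exact e'.injective (hs.trans (e'.apply_symm_apply _).symm)
  subst hm1
  refine ⟨⟨F, inferInstance, inferInstance, hF, ⟨e⟩⟩, hyN, fun hO => ?_⟩
  set s : ↥K →* Sz F 1 := e'.toMonoidHom.comp (QuotientGroup.mk' Z) with hs
  have hsker : s.ker = Z := by
    ext x
    rw [hs, MonoidHom.mem_ker, MonoidHom.comp_apply, MulEquiv.coe_toMonoidHom, MulEquiv.map_eq_one_iff]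
    exact QuotientGroup.eq_one_iff x
  have hstem : Cfsg.IsStemExtension s :=
    ⟨e'.surjective.comp (QuotientGroup.mk'_surjective Z), hsker.le, by
      rw [Group.IsPerfect.commutator_eq_top]; exact le_top⟩
  obtain ⟨π, hπ⟩ := Suzuki.Eight.stem_kernel_le_four (F := F) hF hstem
  have hZ2 : IsPGroup 2 Z := by
    haveI := Fact.mk Nat.prime_two
    rw [← hsker]
    exact (IsPGroup.of_card (p := 2) (n := 2) (by simp)).of_surjective π hπ
  have hle : Z.map K.subtype ≤ Cfsg.pCore 2 G := Cores.le_pCore_of_isSubnormal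
    ((inferInstance : Z.Normal).isSubnormal.trans' hK.1) (hZ2.map _)
  rw [hO, le_bot_iff, Subgroup.map_eq_bot_iff_of_injective _ K.subtype_injective] at hle
  have e0 : ↥K ≃* ↥K ⧸ Z :=
    (QuotientGroup.quotientBot.symm).trans (QuotientGroup.quotientMulEquivOfEq hle.symm)
  haveI : Nontrivial ↥K := e0.toEquiv.nontrivial
  exact e0.isSimpleGroup

end Cfsg.Agent.ThreePrimeUse
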