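import Cfsg.Agent.Lib.ThreePrimeUse.PiHomog
import Cfsg.Agent.Lib.ThreePrimeUse.Component
import Cfsg.Agent.Lib.MaxOrders.Main
import Cfsg.Agent.Lib.Goldschmidt.ThreePrime.Final

/-!
The statements S3728, S4045 and S2976 from Aschbacher's criterion (owner: helper96).
-/

set_option autoImplicit false

open Cfsg

namespace Cfsg.Agent.ThreePrimeUse

open Cfsg.Agent.Goldschmidt.ThreePrime

universe u v

/-- S4045 given the criterion. -/
theorem piHomog_of_criterion (hC : Aschbacher.CoreFreeCriterion.{u}) {G : Type u} [Group G] [Finite G] {π : Set ℕ}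
    (hodd : ∀ p ∈ π, p.Prime ∧ p ≠ 2) (h3 : ¬ 3 ∣ Nat.card G)
    (hhom : ∀ H : Subgroup G, H ≠ ⊥ → (∀ p : ℕ, p.Prime → p ∣ Nat.card ↥H → p ∈ π) →
      ∀ p : ℕ, p.Prime →
        p ∣ (Subgroup.centralizer (H : Set G)).relIndex (Subgroup.normalizer (H : Set G)) → p ∈ π) :
    ∃ K : Subgroup G, ∀ x : G, x ∈ K ↔ ∀ p : ℕ, p.Prime → p ∣ orderOf x → p ∉ π :=
  result_of_relIndex (threePrimeClass_of_criterion hC) hodd h3 hhom

/-- S2976 given the criterion. -/
theorem component_of_criterion (hC : Aschbacher.CoreFreeCriterion.{u}) {G : Type u} [Group G] [Finite G]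
    (K : Subgroup G) (hK : Cfsg.IsComponent K) (h3 : ¬ 3 ∣ Nat.card ↥K) (y : G) (hy : orderOf y = 3)
    (hsol : Group.IsSolvable ↥(Subgroup.centralizer ({y} : Set G))) :
    (∃ (F : Type) (_ : Field F) (_ : Fintype F), Fintype.card F = 8 ∧
      Nonempty (↥K ⧸ Subgroup.center ↥K ≃* ↥(Cfsg.Lie.Sz F 4))) ∧
      y ∈ Subgroup.normalizer (K : Set G) ∧ (Cfsg.pCore 2 G = ⊥ → IsSimpleGroup ↥K) :=
  main (threePrimeClass_of_criterion hC) K hK h3 y hy hsol

/-- S3728 given the criterion. -/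
theorem maxOrders_of_criterion (hC : Aschbacher.CoreFreeCriterion.{u}) {G : Type u} [Group G] [Finite G]
    {F : Type v} [Field F] [Fintype F] {m : ℕ} (hm : 1 ≤ m) (hF : Fintype.card F = 2 ^ (2 * m + 1))
    (h : {k : ℕ | ∃ M : Subgroup G, IsCoatom M ∧ k = Nat.card ↥M} =
      {k : ℕ | ∃ M : Subgroup ↥(Cfsg.Lie.Sz F (2 ^ (m + 1))), IsCoatom M ∧ k = Nat.card ↥M}) :
    Nonempty (G ≃* ↥(Cfsg.Lie.Sz F (2 ^ (m + 1)))) :=
  MaxOrders.main (threePrimeClass_of_criterion hC) hm hF h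

end Cfsg.Agent.ThreePrimeUse
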