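import Cfsg.Agent.EqLemmas
import Cfsg.Agent.Lib.MaxOrders.Main
import Cfsg.Agent.Lib.GraphCIT.SzFacts
import Cfsg.Agent.Lib.Suzuki.Tori
import Cfsg.Agent.Lib.FTUse.Hall
import Cfsg.Agent.S0205

/-!
`π`-homogeneous groups of order prime to three, `π` odd, have normal `π'`-parts (owner: helper96),
given the classification of the simple groups of order prime to three.
-/

set_option autoImplicit false
set_option linter.unusedSectionVars false
set_option linter.style.haveILetI false

open Cfsg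
open scoped Pointwise

namespace Cfsg.Agent.ThreePrimeUse

open Cfsg.Agent.Solvable Cfsg.Agent.MaxOrders

universe u v

/-- Elements normalising a `π`-subgroup centralise it up to a `π`-number. -/
def Hom (π : Set ℕ) (G : Type u) [Group G] : Prop :=
  ∀ U : Subgroup G, IsPiNum π (Nat.card U) → ∀ g ∈ Subgroup.normalizer (U : Set G),
    ∃ k : ℕ, k ≠ 0 ∧ IsPiNum π k ∧ g ^ k ∈ Subgroup.centralizer (U : Set G)

/-- The element has order prime to `π`. -/
def PiPrime (π : Set ℕ) {G : Type u} [Group G] (x : G) : Prop :=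
  ∀ p : ℕ, p.Prime → p ∣ orderOf x → p ∉ π

/-- The `π'`-elements form a subgroup. -/
def Closed (π : Set ℕ) (G : Type u) [Group G] : Prop :=
  ∃ K : Subgroup G, ∀ x : G, x ∈ K ↔ PiPrime π x

variable {π : Set ℕ}

theorem piPrime_map {G : Type u} {H : Type v} [Group G] [Group H] (f : G →* H) {x : G}
    (hx : PiPrime π x) : PiPrime π (f x) := fun p hp hd => hx p hp (hd.trans (orderOf_map_dvd f x))

theorem conj_smul_eq_of_mem_normalizer {G : Type u} [Group G] {L : Subgroup G} {g : G}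
    (hg : g ∈ Subgroup.normalizer (L : Set G)) : MulAut.conj g • L = L := by
  ext x
  rw [Subgroup.mem_smul_pointwise_iff_exists]
  constructor
  · rintro ⟨y, hy, rfl⟩
    exact (Subgroup.mem_normalizer_iff.1 hg y).1 hy
  · intro hx
    refine ⟨g⁻¹ * x * g, (Subgroup.mem_normalizer_iff.1 hg _).2 ?_, ?_⟩
    · simpa [mul_assoc] using hx
    · simp [MulAut.smul_def, mul_assoc]

theorem mem_normalizer_zpowers {G : Type u} [Group G] [Finite G] {x g : G}
    (h : g * x * g⁻¹ ∈ Subgroup.zpowers x) : g ∈ Subgroup.normalizer (Subgroup.zpowers x : Set G) := by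
  have hle : MulAut.conj g • Subgroup.zpowers x ≤ Subgroup.zpowers x := by
    intro y hy
    obtain ⟨z, ⟨j, rfl⟩, rfl⟩ := Subgroup.mem_smul_pointwise_iff_exists _ _ _ |>.1 hy
    show g * x ^ j * g⁻¹ ∈ Subgroup.zpowers x
    rw [← conj_zpow]
    exact zpow_mem h j
  have heq := Subgroup.eq_of_le_of_card_ge hle (by rw [Solvable.card_conj])
  refine Subgroup.mem_normalizer_iff.2 fun y => ?_
  conv_rhs => rw [← heq]
  rw [Subgroup.mem_smul_pointwise_iff_exists]
  constructor
  · exact fun hy => ⟨y, hy, rfl⟩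
  · rintro ⟨z, hz, e⟩
    have : z = y := (MulAut.conj g).injective e
    rwa [← this]

theorem piPrime_conj {G : Type u} [Group G] {x : G} (g : G) (hx : PiPrime π x) :
    PiPrime π (g * x * g⁻¹) := piPrime_map (MulAut.conj g).toMonoidHom hx

theorem coprime_of_piPrime {G : Type u} [Group G] {x : G} (hx : PiPrime π x) {k : ℕ}
    (hk : IsPiNum π k) : (orderOf x).Coprime k :=
  Nat.coprime_of_dvd fun p hp h1 h2 => hx p hp h1 (hk p hp h2)

theorem normal_of_closed_char {G : Type u} [Group G] {K : Subgroup G} {M : Subgroup G} [M.Normal]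
    (h : ∀ x : G, x ∈ K ↔ x ∈ M ∧ PiPrime π x) : K.Normal :=
  ⟨fun x hx g => by
    obtain ⟨h1, h2⟩ := (h x).1 hx
    exact (h _).2 ⟨‹M.Normal›.conj_mem x h1 g, piPrime_conj g h2⟩⟩

theorem hom_of_injective {G : Type u} {H : Type v} [Group G] [Group H] (f : H →* G)
    (hf : Function.Injective f) (h : Hom π G) : Hom π H := by
  intro U hU g hg
  have hg' : f g ∈ Subgroup.normalizer ((U.map f : Subgroup G) : Set G) :=
    Subgroup.le_normalizer_map f ⟨g, hg, rfl⟩
  obtain ⟨k, hk0, hk, hc⟩ := h (U.map f) (by rwa [Subgroup.card_map_of_injective hf]) _ hg'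
  refine ⟨k, hk0, hk, Subgroup.mem_centralizer_iff.2 fun u hu => hf ?_⟩
  rw [map_mul, map_mul, map_pow]
  exact Subgroup.mem_centralizer_iff.1 hc _ ⟨u, hu, rfl⟩

theorem piPrime_coe {G : Type u} [Group G] {M : Subgroup G} (x : M) :
    PiPrime π (x : G) ↔ PiPrime π x := by
  unfold PiPrime
  rw [Subgroup.orderOf_coe]

theorem closed_of_commute {G : Type u} [Group G] [Finite G] (h : ∀ a b : G, a * b = b * a) :
    Closed π G := by
  refine ⟨{ carrier := {x | PiPrime π x}, one_mem' := ?_, mul_mem' := ?_, inv_mem' := ?_ },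
    fun x => Iff.rfl⟩
  · intro x y hx hy p hp hd
    have h1 := hd.trans ((show Commute x y from h x y).orderOf_mul_dvd_mul_orderOf)
    exact (hp.dvd_mul.1 h1).elim (hx p hp) (hy p hp)
  · intro p hp hd
    rw [orderOf_one] at hd
    exact absurd (Nat.dvd_one.1 hd) hp.ne_one
  · intro x hx
    simpa [PiPrime] using hx

/-- A preimage reduces the question to the quotient by a `π'`-subgroup. -/
theorem closed_of_quotient {G : Type u} [Group G] [Finite G] (N : Subgroup G) [N.Normal]
    (hN : IsPiNum {p | p ∉ π} (Nat.card N)) (h : Closed π (G ⧸ N)) : Closed π G := by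
  obtain ⟨K, hK⟩ := h
  refine ⟨K.comap (QuotientGroup.mk' N), fun x => ?_⟩
  rw [Subgroup.mem_comap, hK]
  refine ⟨fun hx p hp hd hpπ => ?_, piPrime_map _⟩
  set j := orderOf (QuotientGroup.mk' N x) with hj
  have hmem : x ^ j ∈ N := (QuotientGroup.eq_one_iff _).1 (by
    rw [← QuotientGroup.mk'_apply, map_pow, hj, pow_orderOf_eq_one])
  have h1 : orderOf x ∣ j * Nat.card N := orderOf_dvd_of_pow_eq_one (by
    rw [pow_mul]
    exact congrArg Subtype.val (pow_card_eq_one' (x := (⟨_, hmem⟩ : N))))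
  exact (hp.dvd_mul.1 (hd.trans h1)).elim (fun h' => hx p hp h' hpπ) (fun h' => hN p hp h' hpπ)

theorem hom_quotient {G : Type u} [Group G] [Finite G] (hFT : FTUse.OddSolvable.{u})
    (N : Subgroup G) [N.Normal]
    (hN : IsPiNum π (Nat.card N) ∨ IsPiNum {p | p ∉ π} (Nat.card N)) (h : Hom π G) :
    Hom π (G ⧸ N) := by
  intro U' hU' g' hg'
  obtain ⟨g, rfl⟩ := QuotientGroup.mk'_surjective N g'
  set q := QuotientGroup.mk' N with hq
  set L := U'.comap q with hL
  have hNL : N ≤ L := fun x hx => by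
    rw [hL, Subgroup.mem_comap, (QuotientGroup.eq_one_iff x).2 hx |> fun e => show q x = 1 from e]
    exact one_mem _
  have hmap : L.map q = U' := Subgroup.map_comap_eq_self_of_surjective (QuotientGroup.mk'_surjective N) _
  have hgL : g ∈ Subgroup.normalizer (L : Set G) :=
    Subgroup.le_normalizer_comap q (Subgroup.mem_comap.2 hg')
  have hrel : N.relIndex L = Nat.card U' := by
    rw [← hmap, ← Subgroup.relIndex_ker, hq, QuotientGroup.ker_mk']
  -- a `π`-subgroup `U` covering `U'` and a lift of `g'` normalising it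
  obtain ⟨U, g₂, hUπ, hUmap, hg₂, hgg⟩ : ∃ (U : Subgroup G) (g₂ : G), IsPiNum π (Nat.card U) ∧
      U.map q = U' ∧ g₂ ∈ Subgroup.normalizer (U : Set G) ∧ q g₂ = q g := by
    rcases hN with hN | hN
    · refine ⟨L, g, ?_, hmap, hgL, rfl⟩
      have h2 := Subgroup.relIndex_mul_relIndex ⊥ N L bot_le hNL
      rw [Subgroup.relIndex_bot_left, Subgroup.relIndex_bot_left, hrel] at h2
      rw [← h2]
      intro p hp hd
      exact (hp.dvd_mul.1 hd).elim (hN p hp) (hU' p hp)
    · have hcop : (Nat.card N).Coprime (N.relIndex L) := by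
        rw [hrel]
        exact Nat.coprime_of_dvd fun p hp h1 h2 => hN p hp h1 (hU' p hp h2)
      obtain ⟨U, hUL, hUcard, hUsup⟩ := exists_lift_of_coprime hNL hcop
      rw [hrel] at hUcard hcop
      have hs : MulAut.conj g • U ⊔ N = U ⊔ N := by
        have h1 : MulAut.conj g • (U ⊔ N) = U ⊔ N := by
          rw [hUsup]; exact conj_smul_eq_of_mem_normalizer hgL
        rwa [Subgroup.smul_sup, Subgroup.Normal.conj_smul_eq_self g N] at h1
      obtain ⟨n, hn, hnU⟩ := FTUse.schurZassenhaus_conj hFT hs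
        (by rw [card_conj, hUcard]; exact hcop.symm) (by rw [hUcard]; exact hcop.symm)
      refine ⟨U, n * g, by rw [hUcard]; exact hU', ?_, ?_, ?_⟩
      · rw [← hmap, ← hUsup, Subgroup.map_sup,
          (Subgroup.map_eq_bot_iff N).2 (by rw [hq, QuotientGroup.ker_mk']), sup_bot_eq]
      · have h1 : MulAut.conj (n * g) • U = U := by rw [map_mul, mul_smul, hnU]
        exact Subgroup.mem_normalizer_iff.2 fun x => by
          conv_rhs => rw [← h1]
          rw [Subgroup.mem_smul_pointwise_iff_exists]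
          constructor
          · exact fun hx => ⟨x, hx, rfl⟩
          · rintro ⟨y, hy, e⟩
            have : y = x := (MulAut.conj (n * g)).injective e
            rwa [← this]
      · rw [map_mul, show q n = 1 from (QuotientGroup.eq_one_iff n).2 hn, one_mul]
  obtain ⟨k, hk0, hk, hc⟩ := h U hUπ g₂ hg₂
  refine ⟨k, hk0, hk, ?_⟩
  rw [← hgg, ← hUmap, ← map_pow, Subgroup.mem_centralizer_iff]
  rintro _ ⟨x, hx, rfl⟩
  rw [← map_mul, ← map_mul, Subgroup.mem_centralizer_iff.1 hc x hx]

section Suzuki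

variable {F : Type*} [Field F] [Fintype F] {m : ℕ}

theorem exists_bad (hm : 1 ≤ m) (hF : Fintype.card F = 2 ^ (2 * m + 1)) {r : ℕ} (hr : r.Prime)
    (hr2 : r ≠ 2) (hd : r ∣ Nat.card (Sz F m)) :
    ∃ x g : Sz F m, orderOf x = r ∧ orderOf g = 2 ∧
      g ∈ Subgroup.normalizer (Subgroup.zpowers x : Set (Sz F m)) ∧ g * x * g⁻¹ ≠ x := by
  classical
  haveI := GraphCIT.finite_sz hm hF
  haveI := Fact.mk hr
  rcases (GraphCIT.card_sz_dvd_iff hm hF hr hr2).1 hd with h | h
  · obtain ⟨x, w, hx, hw, hwx, -⟩ := GraphCIT.invertedTorus_sz hm hF hr hr2 h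
    refine ⟨x, w, hx, hw, mem_normalizer_zpowers ?_, ?_⟩
    · rw [hwx]
      exact inv_mem (Subgroup.mem_zpowers x)
    · rw [hwx]
      intro e
      have h2 : orderOf x ∣ 2 := orderOf_dvd_of_pow_eq_one (by
        rw [pow_two]; nth_rw 1 [← e]; exact inv_mul_cancel x)
      exact hr2 ((Nat.prime_dvd_prime_iff_eq hr Nat.prime_two).1 (hx ▸ h2))
  · obtain ⟨x, hx⟩ := exists_prime_orderOf_dvd_card' r hd
    have hx1 : x ≠ 1 := fun e => hr.ne_one (by rw [← hx, e, orderOf_one])
    have hfpf : Suzuki.FPF x := by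
      intro p hp hfix
      rcases Suzuki.fixer_cases hm hF hx1 hp hfix with ⟨s, a, b, -, -, e⟩ | ⟨s, k, -, e⟩
      · have h2 : r ∣ Nat.card (Suzuki.uSub (m := m) hF) := by
          rw [← hx, e, show s * Suzuki.tSz hF a b * s⁻¹ = MulAut.conj s (Suzuki.tSz hF a b) from rfl,
            MulEquiv.orderOf_eq]
          exact Subgroup.orderOf_dvd_natCard _ ⟨a, b, rfl⟩
        rw [Suzuki.card_uSub, ← pow_mul] at h2
        exact hr2 ((Nat.prime_dvd_prime_iff_eq hr Nat.prime_two).1 (hr.dvd_of_dvd_pow h2))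
      · have h2 : r ∣ 2 ^ (2 * m + 1) - 1 := by
          rw [← hx, e, show s * Suzuki.dSz hF k * s⁻¹ = MulAut.conj s (Suzuki.dSz hF k) from rfl,
            MulEquiv.orderOf_eq]
          refine (orderOf_map_dvd (Suzuki.dHom hF) k).trans ?_
          rw [← hF, ← Nat.card_eq_fintype_card, ← Nat.card_units]
          exact orderOf_dvd_natCard k
        exact hr.ne_one (Nat.eq_one_of_dvd_coprimes
          (Suzuki.coprime_pred _ Suzuki.two_dvd_q) h2 h)
    obtain ⟨hc, hN⟩ := Suzuki.torus_data hm hF hfpf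
    have hodd : Odd (Nat.card (Suzuki.torus x)) := by
      have hd' : Nat.card (Suzuki.torus x) ∣ (2 ^ (2 * m + 1)) ^ 2 + 1 := by
        rw [← Suzuki.torusA_mul_torusB]
        rcases hc with e | e <;> rw [e]
        · exact dvd_mul_right _ _
        · exact dvd_mul_left _ _
      refine Odd.of_dvd_nat ?_ hd'
      rw [← pow_mul]
      exact (Nat.even_pow.2 ⟨even_two, by omega⟩).add_one
    haveI := Fact.mk Nat.prime_two
    obtain ⟨g, hg⟩ := exists_prime_orderOf_dvd_card' (G := Subgroup.normalizer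
      (Suzuki.torus x : Set (Sz F m))) 2 (by rw [hN]; exact dvd_mul_of_dvd_left (by norm_num) _)
    refine ⟨x, g, hx, by rw [Subgroup.orderOf_coe, hg], ?_, ?_⟩
    · have hmem : (g : Sz F m) * x * (g : Sz F m)⁻¹ ∈ Suzuki.torus x :=
        (Subgroup.mem_normalizer_iff.1 g.2 x).1 (Suzuki.self_mem_torus x)
      have hcom : Commute ((g : Sz F m) * x * (g : Sz F m)⁻¹) x :=
        Subgroup.mem_centralizer_singleton_iff.1 hmem
      set y := (g : Sz F m) * x * (g : Sz F m)⁻¹ with hy
      have hyo : orderOf y = r := by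
        rw [hy, show (g : Sz F m) * x * (g : Sz F m)⁻¹ = MulAut.conj (g : Sz F m) x from rfl,
          MulEquiv.orderOf_eq, hx]
      set A := Subgroup.closure ({x, y} : Set (Sz F m)) with hA
      haveI : IsMulCommutative A := Subgroup.isMulCommutative_closure (by
        rintro a (rfl | rfl) b (rfl | rfl) <;> first | rfl | exact hcom | exact hcom.symm)
      have hP : IsPGroup r A := by
        rintro ⟨a, ha⟩
        refine ⟨1, ?_⟩
        apply Subtype.ext
        rw [SubmonoidClass.coe_pow, pow_one]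
        show a ^ r = ((1 : A) : Sz F m)
        induction ha using Subgroup.closure_induction with
        | mem z hz =>
          rcases hz with rfl | rfl
          · rw [← hx]; exact pow_orderOf_eq_one _
          · rw [← hyo]; exact pow_orderOf_eq_one _
        | one => exact one_pow r
        | mul a b ha hb iha ihb =>
          have hab : Commute a b :=
            congrArg Subtype.val (IsMulCommutative.is_comm.comm (⟨a, ha⟩ : A) ⟨b, hb⟩)
          rw [hab.mul_pow, iha, ihb, OneMemClass.coe_one, one_mul]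
        | inv a _ iha => rw [inv_pow, iha, OneMemClass.coe_one, inv_one]
      obtain ⟨P, hPle⟩ := hP.exists_le_sylow
      haveI := Suzuki.sylow_odd_cyclic hm hF hr2 P
      obtain ⟨⟨c, hc'⟩, hgen⟩ := IsCyclic.exists_generator (α := P)
      have hcm : ∀ z ∈ (P : Subgroup (Sz F m)), z ∈ Subgroup.zpowers c := fun z hz => by
        obtain ⟨j, hj⟩ := hgen ⟨z, hz⟩
        exact ⟨j, congrArg Subtype.val hj⟩
      have heq : Subgroup.zpowers x = Subgroup.zpowers y :=
        PSL2.zpowers_eq_of_orderOf (hcm _ (hPle (Subgroup.subset_closure (Or.inl rfl))))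
          (hcm _ (hPle (Subgroup.subset_closure (Or.inr rfl)))) (hx.trans hyo.symm)
      refine mem_normalizer_zpowers ?_
      rw [heq]
      exact Subgroup.mem_zpowers y
    · intro e
      have : (g : Sz F m) ∈ Suzuki.torus x := Subgroup.mem_centralizer_singleton_iff.2
        (mul_inv_eq_iff_eq_mul.1 e)
      have h2 := Subgroup.orderOf_dvd_natCard _ this
      rw [Subgroup.orderOf_coe, hg] at h2
      exact (Nat.not_even_iff_odd.2 hodd) (even_iff_two_dvd.2 h2)

theorem not_dvd_of_hom (hm : 1 ≤ m) (hF : Fintype.card F = 2 ^ (2 * m + 1)) {r : ℕ} (hr : r.Prime)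
    (hrπ : r ∈ π) (hodd : ∀ p ∈ π, p.Prime ∧ p ≠ 2) (h : Hom π (Sz F m)) :
    ¬ r ∣ Nat.card (Sz F m) := by
  intro hd
  obtain ⟨x, g, hx, hg, hN, hne⟩ := exists_bad hm hF hr (hodd r hrπ).2 hd
  obtain ⟨k, -, hk, hc⟩ := h (Subgroup.zpowers x) (by
    rw [Nat.card_zpowers, hx]
    intro p hp hp'
    rwa [(Nat.prime_dvd_prime_iff_eq hp hr).1 hp']) g hN
  have hkodd : Odd k := Nat.not_even_iff_odd.1 fun he =>
    (hodd 2 (hk 2 Nat.prime_two (even_iff_two_dvd.1 he))).2 rfl
  obtain ⟨j, rfl⟩ := hkodd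
  rw [pow_succ, pow_mul, show g ^ 2 = 1 by rw [← hg]; exact pow_orderOf_eq_one g, one_pow,
    one_mul] at hc
  exact hne (mul_inv_eq_iff_eq_mul.2 (Subgroup.mem_centralizer_iff.1 hc x
    (Subgroup.mem_zpowers x)).symm)

end Suzuki

/-- In a `π`-homogeneous group of order prime to `3`, `π` odd, the `π'`-elements form a subgroup. -/
theorem closed (h3P : ThreePrimeClass.{u}) (hodd : ∀ p ∈ π, p.Prime ∧ p ≠ 2) :
    ∀ (G : Type u) [Group G] [Finite G], ¬ 3 ∣ Nat.card G → Hom π G → Closed π G := by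
  classical
  have hFT : FTUse.OddSolvable.{u} := fun G _ _ h => S0205.result h
  suffices key : ∀ n (G : Type u) [Group G] [Finite G], Nat.card G = n → ¬ 3 ∣ Nat.card G →
      Hom π G → Closed π G from fun G _ _ h1 h2 => key _ G rfl h1 h2
  intro n
  induction n using Nat.strong_induction_on with
  | _ n ih =>
  intro G _ _ hn h3 hhom
  by_cases hab : ∀ a b : G, a * b = b * a
  · exact closed_of_commute hab
  push_neg at hab
  by_cases hs : IsSimpleGroup G
  · obtain ⟨F, _, _, m, hm, hF, ⟨e⟩⟩ := h3P G hab h3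
    set e' : G ≃* Sz F m := e.trans (Suzuki.lieEquiv hm hF).symm
    have hS : Hom π (Sz F m) := hom_of_injective e'.symm.toMonoidHom e'.symm.injective hhom
    refine ⟨⊤, fun x => iff_of_true (Subgroup.mem_top x) fun p hp hd hpπ => ?_⟩
    refine not_dvd_of_hom hm hF hp hpπ hodd hS ?_
    rw [← Nat.card_congr e'.toEquiv]
    exact hd.trans (orderOf_dvd_natCard x)
  haveI : Nontrivial G := by
    obtain ⟨a, b, hne⟩ := hab
    exact ⟨⟨a * b, b * a, hne⟩⟩
  obtain ⟨M, hMn, hM1, hM2⟩ : ∃ M : Subgroup G, M.Normal ∧ M ≠ ⊥ ∧ M ≠ ⊤ := by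
    by_contra hc
    push_neg at hc
    exact hs ⟨fun H hH => or_iff_not_imp_left.2 (hc H hH)⟩
  have hMlt : Nat.card M < n := hn ▸ lt_of_le_of_ne (Subgroup.card_le_card_group M)
    fun e => hM2 (Subgroup.eq_top_of_card_eq M e)
  have hdvd : Nat.card M ∣ Nat.card G := M.card_subgroup_dvd_card
  obtain ⟨K₀, hK₀⟩ := ih _ hMlt M rfl (fun h => h3 (h.trans hdvd))
    (hom_of_injective M.subtype M.subtype_injective hhom)
  set N := K₀.map M.subtype with hN
  have hNiff : ∀ x : G, x ∈ N ↔ x ∈ M ∧ PiPrime π x := by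
    intro x
    constructor
    · rintro ⟨y, hy, rfl⟩
      exact ⟨y.2, (piPrime_coe y).2 ((hK₀ y).1 hy)⟩
    · rintro ⟨h1, h2⟩
      exact ⟨⟨x, h1⟩, (hK₀ _).2 ((piPrime_coe (⟨x, h1⟩ : M)).1 h2), rfl⟩
  haveI : N.Normal := normal_of_closed_char hNiff
  have hquot : ∀ H : Subgroup G, H ≠ ⊥ → H.index < n := by
    intro H hH
    rw [← hn, ← H.card_mul_index]
    exact (Nat.lt_mul_iff_one_lt_left (Nat.pos_of_ne_zero H.index_ne_zero_of_finite)).2
      (Subgroup.one_lt_card_iff_ne_bot H |>.2 hH)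
  have hq3 : ∀ H : Subgroup G, ¬ 3 ∣ H.index := fun H h => h3 (h.trans H.index_dvd_card)
  by_cases hN1 : N ≠ ⊥
  · have hNπ : IsPiNum {p | p ∉ π} (Nat.card N) := by
      intro p hp hd
      haveI := Fact.mk hp
      obtain ⟨x, hx⟩ := exists_prime_orderOf_dvd_card' (G := N) p hd
      exact ((hNiff x).1 x.2).2 p hp (by rw [Subgroup.orderOf_coe, hx])
    exact closed_of_quotient N hNπ (ih N.index (hquot N hN1) (G ⧸ N) N.index_eq_card.symm
      (by rw [← N.index_eq_card]; exact hq3 N) (hom_quotient hFT N (Or.inr hNπ) hhom))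
  push_neg at hN1
  have hMπ : IsPiNum π (Nat.card M) := by
    intro p hp hd
    by_contra hpπ
    haveI := Fact.mk hp
    obtain ⟨x, hx⟩ := exists_prime_orderOf_dvd_card' (G := M) p hd
    have hmem : (x : G) ∈ N := (hNiff x).2 ⟨x.2, fun q hq hqd => by
      rw [Subgroup.orderOf_coe, hx, Nat.prime_dvd_prime_iff_eq hq hp] at hqd
      rwa [hqd]⟩
    rw [hN1, Subgroup.mem_bot] at hmem
    rw [← Subgroup.orderOf_coe, hmem, orderOf_one] at hx
    exact hp.ne_one hx.symm
  obtain ⟨Kb, hKb⟩ := ih M.index (hquot M hM1) (G ⧸ M) M.index_eq_card.symm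
    (by rw [← M.index_eq_card]; exact hq3 M) (hom_quotient hFT M (Or.inl hMπ) hhom)
  set K₁ := Kb.comap (QuotientGroup.mk' M) with hK₁
  by_cases hK1 : K₁ = ⊤
  · have hidx : IsPiNum {p | p ∉ π} M.index := by
      intro p hp hd
      haveI := Fact.mk hp
      rw [M.index_eq_card] at hd
      obtain ⟨x, hx⟩ := exists_prime_orderOf_dvd_card' p hd
      obtain ⟨y, rfl⟩ := QuotientGroup.mk'_surjective M x
      have hy : y ∈ K₁ := hK1 ▸ Subgroup.mem_top y
      exact (hKb _).1 hy p hp (by rw [hx])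
    obtain ⟨C, hC⟩ := Subgroup.exists_right_complement'_of_coprime (N := M)
      (Nat.coprime_of_dvd fun p hp h1 h2 => hidx p hp h2 (hMπ p hp h1))
    have hCcard : Nat.card C = M.index := by
      rw [(Subgroup.IsComplement'.symm hC).index_eq_card]
    have hCent : C ≤ Subgroup.centralizer (M : Set G) := by
      intro c hc
      have hcp : PiPrime π c := fun p hp hd =>
        hidx p hp (hCcard ▸ hd.trans (Subgroup.orderOf_dvd_natCard C hc))
      obtain ⟨k, hk0, hk, hck⟩ := hhom M hMπ c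
        (Subgroup.normalizer_eq_top (H := M) ▸ Subgroup.mem_top c)
      obtain ⟨j, hj⟩ := exists_pow_eq_self_of_coprime (coprime_of_piPrime hcp hk).symm
      rw [← hj]
      exact Subgroup.pow_mem _ hck j
    haveI hCn : C.Normal := by
      refine Subgroup.normalizer_eq_top_iff.1 (eq_top_iff.2 (hC.sup_eq_top ▸ sup_le ?_
        Subgroup.le_normalizer))
      intro a ha
      refine Subgroup.mem_normalizer_iff.2 fun x => ?_
      constructor
      · intro hx
        rwa [show a * x * a⁻¹ = x from mul_inv_eq_iff_eq_mul.2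
          (Subgroup.mem_centralizer_iff.1 (hCent hx) a ha)]
      · intro hx
        have h1 := Subgroup.mem_centralizer_iff.1 (hCent hx) a⁻¹ (inv_mem ha)
        have h2 : x = a * x * a⁻¹ := by
          calc x = a⁻¹ * (a * x * a⁻¹) * a := by group
            _ = a * x * a⁻¹ * a⁻¹ * a := by rw [h1]
            _ = a * x * a⁻¹ := by group
        rwa [h2]
    refine ⟨C, fun x => ⟨fun hx p hp hd =>
      hidx p hp (hCcard ▸ hd.trans (Subgroup.orderOf_dvd_natCard C hx)), fun hx => ?_⟩⟩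
    refine (QuotientGroup.eq_one_iff x).1 (orderOf_eq_one_iff.1 ?_)
    have h1 : orderOf (x : G ⧸ C) ∣ Nat.card M := by
      refine (orderOf_dvd_natCard (x : G ⧸ C)).trans ?_
      rw [← C.index_eq_card, hC.index_eq_card]
    have h2 : orderOf (x : G ⧸ C) ∣ orderOf x := orderOf_map_dvd (QuotientGroup.mk' C) x
    exact Nat.eq_one_of_dvd_coprimes (coprime_of_piPrime hx hMπ) h2 h1
  · have hlt : Nat.card K₁ < n := hn ▸ lt_of_le_of_ne (Subgroup.card_le_card_group K₁)
      fun e => hK1 (Subgroup.eq_top_of_card_eq K₁ e)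
    obtain ⟨K, hK⟩ := ih _ hlt K₁ rfl (fun h => h3 (h.trans K₁.card_subgroup_dvd_card))
      (hom_of_injective K₁.subtype K₁.subtype_injective hhom)
    refine ⟨K.map K₁.subtype, fun x => ⟨?_, fun hx => ?_⟩⟩
    · rintro ⟨y, hy, rfl⟩
      exact (piPrime_coe y).2 ((hK y).1 hy)
    · have h1 : x ∈ K₁ := (hKb _).2 (piPrime_map _ hx)
      exact ⟨⟨x, h1⟩, (hK _).2 ((piPrime_coe (⟨x, h1⟩ : K₁)).1 hx), rfl⟩

theorem result_of_relIndex {G : Type u} [Group G] [Finite G] (h3P : ThreePrimeClass.{u})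
    (hodd : ∀ p ∈ π, p.Prime ∧ p ≠ 2) (h3 : ¬ 3 ∣ Nat.card G)
    (hhom : ∀ H : Subgroup G, H ≠ ⊥ → (∀ p : ℕ, p.Prime → p ∣ Nat.card ↥H → p ∈ π) →
      ∀ p : ℕ, p.Prime →
        p ∣ (Subgroup.centralizer (H : Set G)).relIndex (Subgroup.normalizer (H : Set G)) → p ∈ π) :
    ∃ K : Subgroup G, ∀ x : G, x ∈ K ↔ ∀ p : ℕ, p.Prime → p ∣ orderOf x → p ∉ π := by
  refine closed h3P hodd G h3 fun U hU g hg => ?_
  by_cases hU1 : U = ⊥
  · refine ⟨1, one_ne_zero, fun p hp hd => absurd (Nat.dvd_one.1 hd) hp.ne_one, ?_⟩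
    rw [hU1]
    exact Subgroup.mem_centralizer_iff.2 fun u hu => by
      rw [Subgroup.mem_bot.1 hu, one_mul, mul_one]
  set C := (Subgroup.centralizer (U : Set G)).subgroupOf (Subgroup.normalizer (U : Set G))
  refine ⟨C.index, C.index_ne_zero_of_finite, hhom U hU1 hU, ?_⟩
  exact C.pow_index_mem ⟨g, hg⟩

end Cfsg.Agent.ThreePrimeUse
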